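import Cfsg.Agent.H217.Odm.Eng
import Cfsg.Agent.H839.SeventeenMain
import Cfsg.Agent.H729.PairBase
import Cfsg.Agent.LThreeFi23.TwoCl
import Cfsg.Agent.NotCT.Orders

/-!
# TEAM ODDM (S4785): `Fi23` (helper293)

`r = 17`, `|N(⟨x⟩)| = 17 · 16`, `s = 7` (a product of two involutions of the parabolic subgroup `S₇` on the nodes
`a, b, c, d, h, i`).
-/

set_option autoImplicit false
set_option maxRecDepth 100000

universe u

namespace Cfsg.Agent.H293.Odm

open Cfsg Subgroup Cfsg.Agent.OrdDiv Cfsg.Agent.H453.OddM Cfsg.Agent.H217.Odm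
open Cfsg.Agent.LThreeFi23 Cfsg.Agent.Lib.PermNet
open Cfsg.Spor (Fi23)


/-- `(a c h)(b d i)` -/
def v7 : List Lt := [.a, .c, .h, .b, .d, .i]

theorem chk_v7 : checkEq 15 (ntw (wrep v7 7)) [] = true := by decide +kernel
theorem chk_s : checkEq 15 (ntw (wrep [.a, .c, .h] 2)) [] = true := by decide +kernel
theorem chk_t : checkEq 15 (ntw (wrep [.b, .d, .i] 2)) [] = true := by decide +kernel

theorem pow_of_chk {y : List Lt} {m : ℕ} (h : checkEq 15 (ntw (wrep y m)) [] = true) : elw y ^ m = 1 := by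
  rw [← elw_wrep, elw_eq_of_checkEq (l' := []) h, elw_nil]

theorem v7_ne : elw v7 ≠ 1 := ne_one_of_pt (p := 7) (by decide +kernel)

theorem real_seven : RealP Fi23 7 := by
  have : Fact (Nat.Prime 7) := ⟨by norm_num⟩
  refine ⟨elw v7, orderOf_eq_prime (pow_of_chk chk_v7) v7_ne, ?_⟩
  have h1 : elw v7 = elw [.a, .c, .h] * elw [.b, .d, .i] := by rw [← elw_append]; rfl
  rw [h1]
  exact IsReal.of_mul (pow_of_chk chk_s) (pow_of_chk chk_t)

theorem realP_congr {T S : Type*} [Group T] [Group S] (e : T ≃* S) {v : ℕ} (h : RealP T v) : RealP S v := by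
  obtain ⟨x, hx, hr⟩ := h
  exact ⟨e x, by rw [MulEquiv.orderOf_eq, hx], hr.map e.toMonoidHom⟩

theorem row_fi23 (tab : OrderTable.{u}) (known : H257.El.Known.{u}) {T : Type u} [Group T] (h : Spor.IsoFi23 T) : Row T := by
  have hc := NotCT.Orders.fi23 h
  have : Finite T := Nat.finite_of_card_ne_zero (by rw [hc]; norm_num)
  obtain ⟨e⟩ := h
  have hsc : ∀ x : T, orderOf x = 17 → H839.Fi23.SC (17 * 16) (zpowers x) := fun x hx =>
    H839.Fi23.SC.map_all e.symm H839.Fi23.seventeen_main (zpowers x) (by rw [Nat.card_zpowers, hx])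
  have hcent : ∀ x : T, orderOf x = 17 → Nat.card (centralizer ({x} : Set T)) = 17 := by
    intro x hx
    obtain ⟨-, h2⟩ := hsc x hx
    rw [H729.PairBase.centralizer_zpowers_eq] at h2
    rw [h2, Nat.card_zpowers, hx]
  refine row_of_two (n := 4089470473293004800) (r := 17) (nu := 16) (ss := [7])
    (l := [(2, 18), (3, 13), (5, 2), (7, 1), (11, 1), (13, 1), (17, 1), (23, 1)]) tab known hc (by norm_num) ?_
    (fun x hx => (hsc x hx).1) ?_ (by decide +kernel)
  · have : Fact (Nat.Prime 17) := ⟨by norm_num⟩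
    obtain ⟨x, hx⟩ := exists_prime_orderOf_dvd_card' (G := T) 17 (by rw [hc]; norm_num)
    refine ⟨x, hx, ?_⟩
    have h1 := norm_of_cent (G := T) (r := 17) (n := 4089470473293004800 / 17) (c := 1) (e := 16) (by norm_num)
      (by rw [hc]) (by norm_num) hx (by rw [hcent x hx]) (by norm_num) (by norm_num)
    exact h1.2 (by decide)
  · intro s hs
    rw [List.mem_singleton] at hs
    subst hs
    refine ⟨by norm_num, realP_congr e.symm real_seven, ?_⟩
    exact H257.El.noOrd_of_cent (by norm_num) hcent (by norm_num) (by norm_num)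

end Cfsg.Agent.H293.Odm

namespace Cfsg.Agent.H293.OdmRowFi23

theorem row (tab : Cfsg.Agent.OrdDiv.OrderTable.{u}) (known : Cfsg.Agent.H257.El.Known.{u}) {T : Type u} [Group T]
    (h : Cfsg.Spor.IsoFi23 T) : Cfsg.Agent.H453.OddM.Row T := Cfsg.Agent.H293.Odm.row_fi23 tab known h

end Cfsg.Agent.H293.OdmRowFi23
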